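import Cfsg.Agent.Lib.Perm.Trans.QuadOmega

/-!
# Two Eichler subgroups generate the commutator subgroup over the field with two elements

If `e, f` is a hyperbolic pair of a nondegenerate quadratic space over the field with two elements
whose orthogonal plane `W` takes the value one, then the Eichler transformations at `e` and at `f`
with parameter in `W` generate a subgroup containing the commutator subgroup of the isometry group.
-/

set_option autoImplicit false
set_option linter.all false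

namespace CfsgLib.H1Two

open scoped Matrix commutatorElement
open Matrix Cfsg.Geo CfsgLib.Perm.Asch CfsgLib.Perm.Trans CfsgLib.Perm.Trans.Quad

local notation "F2" => ZMod 2
local notation "pol" => QuadraticMap.polar

variable {ι : Type} [Fintype ι] [DecidableEq ι] {Q : (ι → F2) → F2}

theorem two_cases (c : F2) : c = 0 ∨ c = 1 := by revert c; decide

theorem self_add (c : F2) : c + c = 0 := by revert c; decide

theorem vadd_self (x : ι → F2) : x + x = 0 := funext fun i => self_add _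

theorem vsub_eq_add (x y : ι → F2) : x - y = x + y := by
  have h : ∀ a b : F2, a - b = a + b := by decide
  exact funext fun i => h _ _

/-- the Eichler transformations at `e` and `f` with parameter orthogonal to both -/
def gens (Q : (ι → F2) → F2) (e f : ι → F2) : Set (GL ι F2) :=
  {g | g ∈ Cfsg.isometryGroup F2 Q ∧
    ∃ a, pol Q a e = 0 ∧ pol Q a f = 0 ∧ (IsE Q e a g ∨ IsE Q f a g)}

/-- the group they generate -/
def gGroup (Q : (ι → F2) → F2) (e f : ι → F2) : Subgroup (GL ι F2) := Subgroup.closure (gens Q e f)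

theorem gGroup_swap (e f : ι → F2) : gGroup Q f e = gGroup Q e f := by
  refine congrArg Subgroup.closure (Set.ext fun g => ?_)
  constructor <;>
  · rintro ⟨hg, a, h1, h2, h3⟩
    exact ⟨hg, a, h2, h1, h3.symm⟩

theorem gGroup_le_iso (e f : ι → F2) : gGroup Q e f ≤ Cfsg.isometryGroup F2 Q :=
  (Subgroup.closure_le _).2 fun g hg => hg.1

variable (hQ : IsNondegenerateQuadraticForm Q)
include hQ

theorem pself_zero (x : ι → F2) : pol Q x x = 0 := by
  rw [pself hQ, show (2 : F2) = 0 from by decide, zero_mul]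

/-- the action of a transformation at `u` -/
theorem isE_apply {u a : ι → F2} {g : GL ι F2} (hg : IsE Q u a g) (x : ι → F2) :
    (g : Matrix ι ι F2) *ᵥ x = x + pol Q x u • a + pol Q x a • u + (Q a * pol Q x u) • u := by
  rw [hg, vsub_eq_add, vsub_eq_add]

/-- the involutive isometry exchanging `e` and `f` -/
theorem refl_swap {e f : ι → F2} (he : Q e = 0) (hf : Q f = 0) (hef : pol Q e f = 1) :
    ∃ r ∈ Cfsg.isometryGroup F2 Q, IsRefl Q (e + f) r ∧ r * r = 1 ∧
      (r : Matrix ι ι F2) *ᵥ e = f ∧ (r : Matrix ι ι F2) *ᵥ f = e ∧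
        ∀ a, pol Q a e = 0 → pol Q a f = 0 → (r : Matrix ι ι F2) *ᵥ a = a := by
  have h1 : Q (e + f) = 1 := by rw [qadd hQ, he, hf, hef, zero_add, zero_add]
  obtain ⟨r, hr, hre⟩ := exists_refl hQ (v := e + f) (by rw [h1]; exact one_ne_zero)
  have happ : ∀ x, (r : Matrix ι ι F2) *ᵥ x = x + pol Q x (e + f) • (e + f) := fun x => by
    rw [hre, h1, inv_one, one_mul, vsub_eq_add]
  refine ⟨r, hr, hre, gl_ext_vec fun x => ?_, ?_, ?_, fun a ha hb => ?_⟩
  · rw [gl_mul_mulVec, happ, happ, padd_left hQ, psmul_left hQ, pself_zero hQ, mul_zero, add_zero,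
      add_assoc, vadd_self, add_zero, Units.val_one, one_mulVec]
  · rw [happ, padd_right hQ, pself_zero hQ, hef, zero_add, one_smul, ← add_assoc, vadd_self, zero_add]
  · rw [happ, padd_right hQ, pself_zero hQ, pcomm f e, hef, add_zero, one_smul, add_comm e f,
      ← add_assoc, vadd_self, zero_add]
  · rw [happ, padd_right hQ, ha, hb, add_zero, zero_smul, add_zero]

theorem ein_pair {e f : ι → F2} (he : Q e = 0) {a : ι → F2} (hae : pol Q a e = 0) (haf : pol Q a f = 0) :
    EIn Q (gGroup Q e f) e a := by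
  obtain ⟨g, hg, hgE⟩ := exists_E hQ he (a := a) (by rw [pcomm, hae])
  exact ⟨g, Subgroup.subset_closure ⟨hg, a, hae, haf, Or.inl hgE⟩, hgE⟩

theorem ein_perp {e f : ι → F2} (he : Q e = 0) (hef : pol Q e f = 1) {a : ι → F2}
    (hae : pol Q a e = 0) : EIn Q (gGroup Q e f) e a := by
  have h1 : pol Q (a + pol Q a f • e) e = 0 := by
    rw [padd_left hQ, psmul_left hQ, hae, pself_zero hQ, mul_zero, add_zero]
  have h2 : pol Q (a + pol Q a f • e) f = 0 := by
    rw [padd_left hQ, psmul_left hQ, hef, mul_one, self_add]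
  have h3 := EIn.add hQ he (by rw [pcomm, h1]) (by rw [psmul_right hQ, pself_zero hQ, mul_zero])
    (ein_pair hQ he h1 h2) (EIn.smul_self hQ (gGroup Q e f) he (pol Q a f))
  rwa [add_assoc, vadd_self, add_zero] at h3

theorem ein_perp' {e f : ι → F2} (hf : Q f = 0) (hef : pol Q e f = 1) {a : ι → F2}
    (haf : pol Q a f = 0) : EIn Q (gGroup Q e f) f a := by
  rw [← gGroup_swap]
  exact ein_perp hQ hf (by rw [pcomm, hef]) haf

/-- the partners of `e` are images of `f` -/
theorem move_to_partner {e f : ι → F2} (he : Q e = 0) (hf : Q f = 0) (hef : pol Q e f = 1)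
    {x : ι → F2} (hx : Q x = 0) (hex : pol Q e x = 1) :
    ∃ g ∈ gGroup Q e f, (g : Matrix ι ι F2) *ᵥ f = x ∧ (g : Matrix ι ι F2) *ᵥ e = e := by
  obtain ⟨a, g, -, hgE, ha, hge, hgf⟩ := exists_move_partner hQ he hf hef hx hex
  have hae : pol Q a e = 0 := by
    rw [ha, psub_left hQ, psub_left hQ, psmul_left hQ, pcomm x e, hex, pcomm f e, hef, pself_zero hQ]
    simp
  obtain ⟨k, hk, hkE⟩ := ein_perp hQ he hef hae
  obtain rfl := hgE.unique hkE
  exact ⟨_, hk, hgf, hge⟩

variable {e f : ι → F2} (he : Q e = 0) (hf : Q f = 0) (hef : pol Q e f = 1) {a₁ : ι → F2}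
  (ha₁ : Q a₁ = 1) (hae₁ : pol Q a₁ e = 0) (haf₁ : pol Q a₁ f = 0)
include he hf hef ha₁ hae₁ haf₁

theorem move_f_to_e : ∃ g ∈ gGroup Q e f, (g : Matrix ι ι F2) *ᵥ f = e := by
  obtain ⟨g₁, hg₁, h₁⟩ := ein_perp' hQ hf hef (a := a₁) haf₁
  obtain ⟨g₂, hg₂, h₂⟩ := ein_perp hQ he hef (a := a₁) hae₁
  refine ⟨(g₂ * g₁)⁻¹, inv_mem (mul_mem hg₂ hg₁), ?_⟩
  have h : ((g₂ * g₁ : GL ι F2) : Matrix ι ι F2) *ᵥ e = f := by
    have e₁ : (g₁ : Matrix ι ι F2) *ᵥ e = e + a₁ + f := by
      rw [isE_apply hQ h₁, hef, pcomm e a₁, hae₁, ha₁]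
      simp
    have ef : pol Q f e = 1 := by rw [pcomm, hef]
    have fa : pol Q f a₁ = 0 := by rw [pcomm, haf₁]
    rw [gl_mul_mulVec, e₁, isE_apply hQ h₂]
    simp only [padd_left hQ, pself_zero hQ, hae₁, ef, fa, pcomm e a₁, ha₁]
    simp only [zero_add, add_zero, one_mul, one_smul, zero_smul]
    calc e + a₁ + f + a₁ + e = (e + e) + (a₁ + a₁) + f := by abel
      _ = f := by rw [vadd_self, vadd_self, zero_add, zero_add]
  conv_lhs => rw [← h]
  rw [← gl_mul_mulVec, inv_mul_cancel, Units.val_one, one_mulVec]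

/-- every singular vector is an image of `f` -/
theorem move_f {x : ι → F2} (hx0 : x ≠ 0) (hx : Q x = 0) :
    ∃ g ∈ gGroup Q e f, (g : Matrix ι ι F2) *ᵥ f = x := by
  rcases two_cases (pol Q e x) with hex | hex
  swap
  · obtain ⟨g, hg, h, -⟩ := move_to_partner hQ he hf hef hx hex
    exact ⟨g, hg, h⟩
  have he0 : e ≠ 0 := fun h => by rw [h, pzero_left hQ] at hef; exact zero_ne_one hef
  obtain ⟨z, hz, hez, hzx⟩ := exists_common_nonorth hQ he0 hx0 he hex
  have hez1 := (two_cases (pol Q e z)).resolve_left hez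
  have hzx1 := (two_cases (pol Q z x)).resolve_left hzx
  obtain ⟨k, hk, hkf, -⟩ := move_to_partner hQ he hf hef hz hez1
  have hki := gGroup_le_iso e f hk
  obtain ⟨x', hx'⟩ : ∃ x', x' = ((k⁻¹ : GL ι F2) : Matrix ι ι F2) *ᵥ x := ⟨_, rfl⟩
  have hkx : (k : Matrix ι ι F2) *ᵥ x' = x := by rw [hx', gl_mulVec_inv]
  have hQx' : Q x' = 0 := by rw [← mem_iso.1 hki, hkx, hx]
  have hfx' : pol Q f x' = 1 := by rw [← iso_pol hki, hkx, hkf, hzx1]
  obtain ⟨l, hl, hle, -⟩ := move_to_partner hQ hf he (by rw [pcomm, hef]) hQx' hfx'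
  obtain ⟨m, hm, hmf⟩ := move_f_to_e hQ he hf hef ha₁ hae₁ haf₁
  rw [gGroup_swap] at hl
  exact ⟨k * l * m, mul_mem (mul_mem hk hl) hm, by rw [gl_mul_mulVec, gl_mul_mulVec, hmf, hle, hkx]⟩

theorem eGroup_le : eGroup Q ≤ gGroup Q e f := by
  refine (Subgroup.closure_le _).2 ?_
  rintro g ⟨hgi, u, a, hu, hua, hgE⟩
  by_cases hu0 : u = 0
  · have : g = 1 := gl_ext_vec fun x => by
      rw [hgE, hu0, pzero_right hQ, Units.val_one, one_mulVec]
      simp
    rw [this]
    exact one_mem _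
  obtain ⟨k, hk, hkf⟩ := move_f hQ he hf hef ha₁ hae₁ haf₁ hu0 hu
  have hki := gGroup_le_iso e f hk
  have hka : pol Q (((k⁻¹ : GL ι F2) : Matrix ι ι F2) *ᵥ a) f = 0 := by
    rw [← iso_pol hki, gl_mulVec_inv, hkf, pcomm, hua]
  obtain ⟨g', hg', hg'E⟩ := (ein_perp' hQ hf hef hka).conj hki hk
  rw [hkf, gl_mulVec_inv] at hg'E
  rw [hgE.unique hg'E]
  exact hg'

/-- the commutator subgroup is contained in the group of the two Eichler subgroups -/
theorem omega_le (hn : 3 ≤ Fintype.card ι) : omegaGL Q ≤ gGroup Q e f := by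
  obtain ⟨r, hr, hre, hr2, hrE, hrF, hrW⟩ := refl_swap hQ he hf hef
  have hrinv : r⁻¹ = r := inv_eq_of_mul_eq_one_right hr2
  have hnorm : ∀ g ∈ gGroup Q e f, r * g * r⁻¹ ∈ gGroup Q e f := by
    intro g hg
    induction hg using Subgroup.closure_induction with
    | mem x hx =>
      obtain ⟨hxi, a, h1, h2, h3⟩ := hx
      refine Subgroup.subset_closure ⟨mul_mem (mul_mem hr hxi) (inv_mem hr), a, h1, h2, ?_⟩
      rcases h3 with h3 | h3
      · have := h3.conj hr
        rw [hrE, hrW a h1 h2] at this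
        exact Or.inr this
      · have := h3.conj hr
        rw [hrF, hrW a h1 h2] at this
        exact Or.inl this
    | one => rw [mul_one, mul_inv_cancel]; exact one_mem _
    | mul x y _ _ hx hy =>
      rw [show r * (x * y) * r⁻¹ = r * x * r⁻¹ * (r * y * r⁻¹) by group]; exact mul_mem hx hy
    | inv x _ hx => rw [show r * x⁻¹ * r⁻¹ = (r * x * r⁻¹)⁻¹ by group]; exact inv_mem hx
  -- every isometry lies in the group or in its coset of `r`
  let M : Subgroup (GL ι F2) :=
    { carrier := {g | g ∈ gGroup Q e f ∨ g * r ∈ gGroup Q e f}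
      one_mem' := Or.inl (one_mem _)
      mul_mem' := fun {x y} hx hy => by
        rcases hx with hx | hx <;> rcases hy with hy | hy
        · exact Or.inl (mul_mem hx hy)
        · exact Or.inr (by rw [mul_assoc]; exact mul_mem hx hy)
        · refine Or.inr ?_
          rw [show x * y * r = x * r * (r⁻¹ * y * r) by group]
          exact mul_mem hx (by have := hnorm y hy; rwa [hrinv] at this ⊢)
        · refine Or.inl ?_
          rw [show x * y = x * r * (r⁻¹ * (y * r) * r⁻¹) by group]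
          exact mul_mem hx (by have := hnorm _ hy; rwa [hrinv] at this ⊢)
      inv_mem' := fun {x} hx => by
        rcases hx with hx | hx
        · exact Or.inl (inv_mem hx)
        · refine Or.inr ?_
          have := hnorm _ (inv_mem hx)
          rwa [show r * (x * r)⁻¹ * r⁻¹ = r * r⁻¹ * x⁻¹ * r⁻¹ by group, mul_inv_cancel, one_mul, hrinv] at this }
  have hle : eRefl Q ≤ M := by
    refine sup_le (fun g hg => Or.inl (eGroup_le hQ he hf hef ha₁ hae₁ haf₁ hg)) ((Subgroup.closure_le _).2 ?_)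
    rintro g ⟨hgi, v, hv, hgv⟩
    have hv1 : Q v = 1 := (two_cases (Q v)).resolve_left hv
    obtain ⟨y, hy, hvy⟩ := exists_singular_nonorth hQ hn (v := v) (fun h => hv (by rw [h]; exact qzero hQ))
    have hvy1 : pol Q v y = 1 := (two_cases (pol Q v y)).resolve_left hvy
    have hy0 : y ≠ 0 := fun h => hvy (by rw [h]; exact pzero_right hQ v)
    obtain ⟨k, hk, hkf⟩ := move_f hQ he hf hef ha₁ hae₁ haf₁ hy0 hy
    have hki := gGroup_le_iso e f hk
    obtain ⟨x', hx'⟩ : ∃ x', x' = ((k⁻¹ : GL ι F2) : Matrix ι ι F2) *ᵥ (v + y) := ⟨_, rfl⟩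
    have hkx : (k : Matrix ι ι F2) *ᵥ x' = v + y := by rw [hx', gl_mulVec_inv]
    have hQx' : Q x' = 0 := by rw [← mem_iso.1 hki, hkx, qadd hQ, hv1, hy, hvy1, add_zero, self_add]
    have hfx' : pol Q f x' = 1 := by
      rw [← iso_pol hki, hkx, hkf, padd_right hQ, pcomm y v, hvy1, pself_zero hQ, add_zero]
    obtain ⟨l, hl, hle, hlf⟩ := move_to_partner hQ hf he (by rw [pcomm, hef]) hQx' hfx'
    rw [gGroup_swap] at hl
    have hkl : k * l ∈ gGroup Q e f := mul_mem hk hl
    have hc := hre.conj (gGroup_le_iso e f hkl)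
    rw [mulVec_add, gl_mul_mulVec, gl_mul_mulVec, hle, hlf, hkx, hkf, add_assoc, vadd_self, add_zero] at hc
    rw [hgv.unique hc]
    refine Or.inr ?_
    rw [show k * l * r * (k * l)⁻¹ * r = k * l * (r * (k * l)⁻¹ * r) by group]
    have := hnorm _ (inv_mem hkl)
    rw [hrinv] at this
    exact mul_mem hkl this
  rintro _ ⟨x, hx, rfl⟩
  let N : Subgroup (Cfsg.isometryGroup F2 Q) := (gGroup Q e f).comap (Cfsg.isometryGroup F2 Q).subtype
  have hcover : ∀ g : Cfsg.isometryGroup F2 Q, g ∈ N ∨ g * ⟨r, hr⟩ ∈ N := fun g => hle (iso_le_eRefl hQ g.2)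
  haveI hN : N.Normal := ⟨fun y hy g => by
    rcases hcover g with h | h
    · exact mul_mem (mul_mem h hy) (inv_mem h)
    · have hy' : (⟨r, hr⟩ : Cfsg.isometryGroup F2 Q)⁻¹ * y * ⟨r, hr⟩ ∈ N := by
        show r⁻¹ * y.1 * r ∈ gGroup Q e f
        have := hnorm y.1 hy
        rwa [hrinv] at this ⊢
      rw [show g * y * g⁻¹ = g * ⟨r, hr⟩ * (⟨r, hr⟩⁻¹ * y * ⟨r, hr⟩) * (g * ⟨r, hr⟩)⁻¹ by group]
      exact mul_mem (mul_mem h hy') (inv_mem h)⟩
  have hle' : Cfsg.Omega F2 Q ≤ N := by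
    rw [show Cfsg.Omega F2 Q = commutator (Cfsg.isometryGroup F2 Q) from rfl, commutator_def, Subgroup.commutator_le]
    intro a _ b _
    refine (QuotientGroup.eq_one_iff _).1 ?_
    show QuotientGroup.mk' N ⁅a, b⁆ = 1
    rw [map_commutatorElement, commutatorElement_eq_one_iff_commute]
    have hpow : ∀ g : Cfsg.isometryGroup F2 Q, QuotientGroup.mk' N g = 1 ∨
        QuotientGroup.mk' N g = (QuotientGroup.mk' N ⟨r, hr⟩)⁻¹ := fun g => by
      rcases hcover g with h | h
      · exact Or.inl ((QuotientGroup.eq_one_iff _).2 h)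
      · refine Or.inr (eq_inv_of_mul_eq_one_left ?_)
        rw [← map_mul]
        exact (QuotientGroup.eq_one_iff _).2 h
    rcases hpow a with h | h <;> rcases hpow b with h' | h' <;> rw [h, h'] <;>
      first
        | exact Commute.one_left (_ : Cfsg.isometryGroup F2 Q ⧸ N)
        | exact Commute.one_right (_ : Cfsg.isometryGroup F2 Q ⧸ N)
        | exact Commute.refl (_ : Cfsg.isometryGroup F2 Q ⧸ N)
  exact hle' hx

end CfsgLib.H1Two
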