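import Cfsg.Agent.Lib.H1Two.Vanishing
import Cfsg.Agent.Lib.Perm.Trans.QuadStd

/-!
# Crossed homomorphisms: the case `Minus1`
-/

set_option autoImplicit false
set_option linter.all false

namespace CfsgLib.H1Two.Minus1

open scoped Matrix
open Matrix Cfsg.Geo CfsgLib.Perm.Asch CfsgLib.Perm.Trans CfsgLib.Perm.Trans.Quad

local notation "ι'" => ((Fin 1 ⊕ Fin 1) ⊕ Fin 2)
local notation "Mat" => Matrix ι' ι' (ZMod 2)

/-- the position of an index -/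
def idx : ι' → Fin 4 := Sum.elim (Sum.elim (fun _ => 0) (fun _ => 1)) ![2, 3]

/-- a matrix given by its entries -/
def mk (f : ι' → ι' → ZMod 2) : Mat := Matrix.of f

/-- the form -/
def Q : (ι' → ZMod 2) → ZMod 2 := Cfsg.quadFormMinus 1 (ZMod 2) 1 1

/-- data -/
def A : Mat := mk (fun i k => (![![1, 0, 0, 0], ![0, 1, 0, 0], ![0, 0, 0, 1], ![0, 0, 1, 1]] : Fin 4 → Fin 4 → ZMod 2) (idx i) (idx k))

/-- data -/
def B : Mat := mk (fun i k => (![![1, 0, 0, 0], ![0, 1, 0, 0], ![0, 0, 1, 0], ![0, 0, 0, 1]] : Fin 4 → Fin 4 → ZMod 2) (idx i) (idx k))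

/-- data -/
def AB : Mat := mk (fun i k => (![![1, 0, 0, 0], ![0, 1, 0, 0], ![0, 0, 0, 1], ![0, 0, 1, 1]] : Fin 4 → Fin 4 → ZMod 2) (idx i) (idx k))

/-- data -/
def Pm : Mat := mk (fun i k => (![![0, 0, 0, 0], ![0, 0, 0, 0], ![0, 0, 0, 1], ![0, 0, 1, 1]] : Fin 4 → Fin 4 → ZMod 2) (idx i) (idx k))

/-- data -/
def R : Mat := mk (fun i k => (![![1, 0, 0, 0], ![0, 1, 0, 0], ![0, 0, 0, 0], ![0, 0, 0, 0]] : Fin 4 → Fin 4 → ZMod 2) (idx i) (idx k))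

/-- data -/
def L1 : Mat := mk (fun i k => (![![1, 0, 0, 0], ![0, 1, 0, 0], ![0, 0, 1, 0], ![0, 0, 0, 1]] : Fin 4 → Fin 4 → ZMod 2) (idx i) (idx k))

/-- data -/
def L2 : Mat := mk (fun i k => (![![0, 0, 0, 0], ![0, 0, 0, 0], ![0, 0, 0, 0], ![0, 0, 0, 0]] : Fin 4 → Fin 4 → ZMod 2) (idx i) (idx k))

theorem AB_eq : A * B = AB := by decide +kernel

/-- data -/
def NA0 : Mat := mk (fun i k => (![![0, 0, 0, 0], ![0, 0, 0, 0], ![0, 0, 0, 0], ![0, 0, 0, 0]] : Fin 4 → Fin 4 → ZMod 2) (idx i) (idx k))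

/-- data -/
def PA0 : Mat := mk (fun i k => (![![1, 0, 0, 0], ![0, 1, 0, 0], ![0, 0, 1, 0], ![0, 0, 0, 1]] : Fin 4 → Fin 4 → ZMod 2) (idx i) (idx k))

/-- data -/
def NA1 : Mat := mk (fun i k => (![![1, 0, 0, 0], ![0, 1, 0, 0], ![0, 0, 1, 0], ![0, 0, 0, 1]] : Fin 4 → Fin 4 → ZMod 2) (idx i) (idx k))

/-- data -/
def PA1 : Mat := mk (fun i k => (![![1, 0, 0, 0], ![0, 1, 0, 0], ![0, 0, 0, 1], ![0, 0, 1, 1]] : Fin 4 → Fin 4 → ZMod 2) (idx i) (idx k))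

/-- data -/
def NA2 : Mat := mk (fun i k => (![![0, 0, 0, 0], ![0, 0, 0, 0], ![0, 0, 1, 1], ![0, 0, 1, 0]] : Fin 4 → Fin 4 → ZMod 2) (idx i) (idx k))

/-- data -/
def PA2 : Mat := mk (fun i k => (![![1, 0, 0, 0], ![0, 1, 0, 0], ![0, 0, 1, 1], ![0, 0, 1, 0]] : Fin 4 → Fin 4 → ZMod 2) (idx i) (idx k))

/-- data -/
def NA3 : Mat := mk (fun i k => (![![1, 0, 0, 0], ![0, 1, 0, 0], ![0, 0, 0, 0], ![0, 0, 0, 0]] : Fin 4 → Fin 4 → ZMod 2) (idx i) (idx k))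

/-- data -/
def PA3 : Mat := mk (fun i k => (![![1, 0, 0, 0], ![0, 1, 0, 0], ![0, 0, 1, 0], ![0, 0, 0, 1]] : Fin 4 → Fin 4 → ZMod 2) (idx i) (idx k))

theorem powA0 : A ^ 0 = PA0 := by rw [pow_zero]; decide +kernel

theorem sumA0 (v : ι' → ZMod 2) : nsum A 0 v = NA0 *ᵥ v := by
  rw [show NA0 = 0 from by decide +kernel, zero_mulVec]; rfl

theorem powA1 : A ^ 1 = PA1 := by rw [pow_succ', powA0]; decide +kernel

theorem sumA1 (v : ι' → ZMod 2) : nsum A 1 v = NA1 *ᵥ v := by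
  rw [nsum, sumA0, mulVec_mulVec, show NA1 = 1 + A * NA0 from by decide +kernel, add_mulVec, one_mulVec]

theorem powA2 : A ^ 2 = PA2 := by rw [pow_succ', powA1]; decide +kernel

theorem sumA2 (v : ι' → ZMod 2) : nsum A 2 v = NA2 *ᵥ v := by
  rw [nsum, sumA1, mulVec_mulVec, show NA2 = 1 + A * NA1 from by decide +kernel, add_mulVec, one_mulVec]

theorem powA3 : A ^ 3 = PA3 := by rw [pow_succ', powA2]; decide +kernel

theorem sumA3 (v : ι' → ZMod 2) : nsum A 3 v = NA3 *ᵥ v := by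
  rw [nsum, sumA2, mulVec_mulVec, show NA3 = 1 + A * NA2 from by decide +kernel, add_mulVec, one_mulVec]

theorem orderA : A ^ 3 = 1 := by rw [powA3]; decide +kernel

/-- data -/
def NB0 : Mat := mk (fun i k => (![![0, 0, 0, 0], ![0, 0, 0, 0], ![0, 0, 0, 0], ![0, 0, 0, 0]] : Fin 4 → Fin 4 → ZMod 2) (idx i) (idx k))

/-- data -/
def PB0 : Mat := mk (fun i k => (![![1, 0, 0, 0], ![0, 1, 0, 0], ![0, 0, 1, 0], ![0, 0, 0, 1]] : Fin 4 → Fin 4 → ZMod 2) (idx i) (idx k))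

/-- data -/
def NB1 : Mat := mk (fun i k => (![![1, 0, 0, 0], ![0, 1, 0, 0], ![0, 0, 1, 0], ![0, 0, 0, 1]] : Fin 4 → Fin 4 → ZMod 2) (idx i) (idx k))

/-- data -/
def PB1 : Mat := mk (fun i k => (![![1, 0, 0, 0], ![0, 1, 0, 0], ![0, 0, 1, 0], ![0, 0, 0, 1]] : Fin 4 → Fin 4 → ZMod 2) (idx i) (idx k))

theorem powB0 : B ^ 0 = PB0 := by rw [pow_zero]; decide +kernel

theorem sumB0 (v : ι' → ZMod 2) : nsum B 0 v = NB0 *ᵥ v := by
  rw [show NB0 = 0 from by decide +kernel, zero_mulVec]; rfl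

theorem powB1 : B ^ 1 = PB1 := by rw [pow_succ', powB0]; decide +kernel

theorem sumB1 (v : ι' → ZMod 2) : nsum B 1 v = NB1 *ᵥ v := by
  rw [nsum, sumB0, mulVec_mulVec, show NB1 = 1 + B * NB0 from by decide +kernel, add_mulVec, one_mulVec]

theorem orderB : B ^ 1 = 1 := by rw [powB1]; decide +kernel

/-- data -/
def NAB0 : Mat := mk (fun i k => (![![0, 0, 0, 0], ![0, 0, 0, 0], ![0, 0, 0, 0], ![0, 0, 0, 0]] : Fin 4 → Fin 4 → ZMod 2) (idx i) (idx k))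

/-- data -/
def PAB0 : Mat := mk (fun i k => (![![1, 0, 0, 0], ![0, 1, 0, 0], ![0, 0, 1, 0], ![0, 0, 0, 1]] : Fin 4 → Fin 4 → ZMod 2) (idx i) (idx k))

/-- data -/
def NAB1 : Mat := mk (fun i k => (![![1, 0, 0, 0], ![0, 1, 0, 0], ![0, 0, 1, 0], ![0, 0, 0, 1]] : Fin 4 → Fin 4 → ZMod 2) (idx i) (idx k))

/-- data -/
def PAB1 : Mat := mk (fun i k => (![![1, 0, 0, 0], ![0, 1, 0, 0], ![0, 0, 0, 1], ![0, 0, 1, 1]] : Fin 4 → Fin 4 → ZMod 2) (idx i) (idx k))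

/-- data -/
def NAB2 : Mat := mk (fun i k => (![![0, 0, 0, 0], ![0, 0, 0, 0], ![0, 0, 1, 1], ![0, 0, 1, 0]] : Fin 4 → Fin 4 → ZMod 2) (idx i) (idx k))

/-- data -/
def PAB2 : Mat := mk (fun i k => (![![1, 0, 0, 0], ![0, 1, 0, 0], ![0, 0, 1, 1], ![0, 0, 1, 0]] : Fin 4 → Fin 4 → ZMod 2) (idx i) (idx k))

/-- data -/
def NAB3 : Mat := mk (fun i k => (![![1, 0, 0, 0], ![0, 1, 0, 0], ![0, 0, 0, 0], ![0, 0, 0, 0]] : Fin 4 → Fin 4 → ZMod 2) (idx i) (idx k))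

/-- data -/
def PAB3 : Mat := mk (fun i k => (![![1, 0, 0, 0], ![0, 1, 0, 0], ![0, 0, 1, 0], ![0, 0, 0, 1]] : Fin 4 → Fin 4 → ZMod 2) (idx i) (idx k))

theorem powAB0 : AB ^ 0 = PAB0 := by rw [pow_zero]; decide +kernel

theorem sumAB0 (v : ι' → ZMod 2) : nsum AB 0 v = NAB0 *ᵥ v := by
  rw [show NAB0 = 0 from by decide +kernel, zero_mulVec]; rfl

theorem powAB1 : AB ^ 1 = PAB1 := by rw [pow_succ', powAB0]; decide +kernel

theorem sumAB1 (v : ι' → ZMod 2) : nsum AB 1 v = NAB1 *ᵥ v := by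
  rw [nsum, sumAB0, mulVec_mulVec, show NAB1 = 1 + AB * NAB0 from by decide +kernel, add_mulVec, one_mulVec]

theorem powAB2 : AB ^ 2 = PAB2 := by rw [pow_succ', powAB1]; decide +kernel

theorem sumAB2 (v : ι' → ZMod 2) : nsum AB 2 v = NAB2 *ᵥ v := by
  rw [nsum, sumAB1, mulVec_mulVec, show NAB2 = 1 + AB * NAB1 from by decide +kernel, add_mulVec, one_mulVec]

theorem powAB3 : AB ^ 3 = PAB3 := by rw [pow_succ', powAB2]; decide +kernel

theorem sumAB3 (v : ι' → ZMod 2) : nsum AB 3 v = NAB3 *ᵥ v := by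
  rw [nsum, sumAB2, mulVec_mulVec, show NAB3 = 1 + AB * NAB2 from by decide +kernel, add_mulVec, one_mulVec]

theorem orderAB : AB ^ 3 = 1 := by rw [powAB3]; decide +kernel

/-- the isometry -/
def gA : GL ι' (ZMod 2) :=
  ⟨A, A ^ 2, by rw [← pow_succ', orderA], by rw [← pow_succ, orderA]⟩

/-- the isometry -/
def gB : GL ι' (ZMod 2) :=
  ⟨B, B ^ 0, by rw [← pow_succ', orderB], by rw [← pow_succ, orderB]⟩

theorem iso_gA : gA ∈ Cfsg.isometryGroup (ZMod 2) Q := mem_iso.2 (by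
  show ∀ v, Q (A *ᵥ v) = Q v
  decide +kernel)

theorem iso_gB : gB ∈ Cfsg.isometryGroup (ZMod 2) Q := mem_iso.2 (by
  show ∀ v, Q (B *ᵥ v) = Q v
  decide +kernel)

/-- the hyperbolic pair -/
def ve : ι' → ZMod 2 := (fun i => (![1, 0, 0, 0] : Fin 4 → ZMod 2) (idx i))
/-- the hyperbolic pair -/
def vf : ι' → ZMod 2 := (fun i => (![0, 1, 0, 0] : Fin 4 → ZMod 2) (idx i))

/-- a vector of the orbit of the starting vector -/
def b0 : ι' → ZMod 2 := (fun i => (![0, 0, 1, 0] : Fin 4 → ZMod 2) (idx i))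

/-- a vector of the orbit of the starting vector -/
def b1 : ι' → ZMod 2 := (fun i => (![0, 0, 0, 1] : Fin 4 → ZMod 2) (idx i))

theorem inW_coord : ∀ v, InW Q ve vf v → ∀ i, (idx i = 0 ∨ idx i = 1) → v i = 0 := by
  show ∀ v, QuadraticMap.polar Q v ve = 0 ∧ QuadraticMap.polar Q v vf = 0 → _
  decide +kernel

theorem inW_P : ∀ v, InW Q ve vf v → InW Q ve vf (Pm *ᵥ v) ∧ A *ᵥ (Pm *ᵥ v) + Pm *ᵥ v = v := by
  show ∀ v, QuadraticMap.polar Q v ve = 0 ∧ QuadraticMap.polar Q v vf = 0 →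
    (QuadraticMap.polar Q (Pm *ᵥ v) ve = 0 ∧ QuadraticMap.polar Q (Pm *ᵥ v) vf = 0) ∧ _
  decide +kernel

theorem end_cases : ∀ t, QuadraticMap.polar Q t ve = 0 → QuadraticMap.polar Q t vf = 0 →
    QuadraticMap.polar Q t b0 = 0 → t = 0 ∨ t = b0 := by
  decide +kernel

theorem span (T : AddSubgroup (ι' → ZMod 2)) (m0 : b0 ∈ T)
    (hT : ∀ h ∈ [gA, gB], ∀ x ∈ T, (h : Mat) *ᵥ x ∈ T) : ∀ w, InW Q ve vf w → w ∈ T := by
  have m1 : b1 ∈ T := by
    have := hT gA (by simp) b0 m0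
    rwa [show (gA : Mat) *ᵥ b0 = b1 from (by decide +kernel : A *ᵥ b0 = b1)] at this
  intro w hw
  rw [← Finset.univ_sum_single w]
  refine sum_mem fun i _ => ?_
  rcases two_cases (w i) with h | h
  · rw [h, Pi.single_zero]
    exact T.zero_mem
  · rw [h]
    have hni := fun hh => one_ne_zero (h.symm.trans (inW_coord w hw i hh))
    by_cases hi2 : idx i = 2
    · rw [show (Pi.single i 1 : ι' → ZMod 2) = b0 from (by decide +kernel : ∀ i, idx i = 2 → (Pi.single i 1 : ι' → ZMod 2) = b0) i hi2]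
      exact m0
    by_cases hi3 : idx i = 3
    · rw [show (Pi.single i 1 : ι' → ZMod 2) = b1 from (by decide +kernel : ∀ i, idx i = 3 → (Pi.single i 1 : ι' → ZMod 2) = b1) i hi3]
      exact m1
    exfalso
    revert hni hi2 hi3
    generalize idx i = k
    revert k
    decide

/-- crossed homomorphisms are principal -/
theorem vanishing (hQ : IsNondegenerateQuadraticForm Q) (φ : ↥(Cfsg.Omega (ZMod 2) Q) → (ι' → ZMod 2))
    (hφ : ∀ g h : ↥(Cfsg.Omega (ZMod 2) Q), φ (g * h) =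
      φ g + (((g : ↥(Cfsg.isometryGroup (ZMod 2) Q)) : GL ι' (ZMod 2)) : Mat) *ᵥ φ h) :
    ∃ v : ι' → ZMod 2, ∀ g : ↥(Cfsg.Omega (ZMod 2) Q),
      φ g = (((g : ↥(Cfsg.isometryGroup (ZMod 2) Q)) : GL ι' (ZMod 2)) : Mat) *ᵥ v - v := by
  refine principal hQ (e := ve) (f := vf) (by decide +kernel) (by decide +kernel) (by decide +kernel) (by simp)
    (a₁ := (fun i => (![0, 0, 0, 1] : Fin 4 → ZMod 2) (idx i))) (by decide +kernel)
    (show _ ∧ _ from by decide +kernel) (h₁ := gA) (h₂ := gB) iso_gA iso_gB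
    (show A *ᵥ ve = ve from by decide +kernel) (show A *ᵥ vf = vf from by decide +kernel)
    (show B *ᵥ ve = ve from by decide +kernel) (show B *ᵥ vf = vf from by decide +kernel)
    (t₁ := 1) (t₂ := 0) (j := 3) (Units.ext (by rw [Units.val_pow_eq_pow_val]; exact orderA))
    (Units.ext (by rw [Units.val_pow_eq_pow_val]; exact orderB))
    (Units.ext (by rw [Units.val_pow_eq_pow_val, Units.val_mul, show (gA : Mat) * (gB : Mat) = AB from AB_eq]; exact orderAB))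
    (fun v => Pm *ᵥ v) (fun v hv => ?_) inW_P (fun v hv hv' => ?_) (a₀ := b0)
    (show _ ∧ _ from by decide +kernel) [] ?_ ?_ span φ hφ
  · have hv0 : NA3 *ᵥ v = 0 := (sumA3 v).symm.trans hv
    have hid : (A + 1) * Pm + R * NA3 = 1 := by decide +kernel
    have h := congrArg (fun M : Mat => M *ᵥ v) hid
    simp only [add_mulVec, add_mul, one_mul, one_mulVec, ← mulVec_mulVec, hv0, mulVec_zero, add_zero] at h
    exact h
  · have hv0 : NB1 *ᵥ v = 0 := (sumB1 v).symm.trans hv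
    have hv1 : NAB3 *ᵥ (A *ᵥ v) = 0 := by
      rw [← sumAB3, ← AB_eq]
      exact hv'
    have hid : L1 * NB1 + L2 * (NAB3 * A) = 1 := by decide +kernel
    have h := congrArg (fun M : Mat => M *ᵥ v) hid
    simp only [add_mulVec, one_mulVec, ← mulVec_mulVec, hv0, hv1, mulVec_zero, add_zero] at h
    exact h.symm
  · intro u hu
    simp at hu

  · intro t ht ht0 hu
    refine end_cases t ht.1 ht.2 ht0

end CfsgLib.H1Two.Minus1
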