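import Cfsg.Agent.Lib.H1Two.Generation

/-!
# Crossed homomorphisms into the natural module over the field with two elements

A criterion for the first cohomology of the commutator subgroup of an orthogonal group on its natural
module to vanish: it suffices to find isometries `h₁`, `h₂` of odd order fixing a hyperbolic pair,
the first without fixed vectors on the orthogonal `W`, with a relation forcing every crossed
homomorphism to vanish on both after normalisation, and with only the scalars as alternating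
equivariant maps of `W`.
-/

set_option autoImplicit false
set_option linter.all false

namespace CfsgLib.H1Two

open scoped Matrix commutatorElement
open Matrix Cfsg.Geo CfsgLib.Perm.Asch CfsgLib.Perm.Trans CfsgLib.Perm.Trans.Quad

local notation "F2" => ZMod 2
local notation "pol" => QuadraticMap.polar

variable {ι : Type} [Fintype ι] [DecidableEq ι] {Q : (ι → F2) → F2}

/-- the sum `v + A v + ⋯` with `k` terms -/
def nsum (A : Matrix ι ι F2) : ℕ → (ι → F2) → (ι → F2)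
  | 0, _ => 0
  | k + 1, v => v + A *ᵥ nsum A k v

/-- orthogonal to `e` and to `f` -/
def InW (Q : (ι → F2) → F2) (e f a : ι → F2) : Prop := pol Q a e = 0 ∧ pol Q a f = 0

/-- a crossed homomorphism on a subgroup of the general linear group -/
def IsCrossed (G : Subgroup (GL ι F2)) (c : GL ι F2 → (ι → F2)) : Prop :=
  ∀ g ∈ G, ∀ h ∈ G, c (g * h) = c g + (g : Matrix ι ι F2) *ᵥ c h

/-- adding a principal crossed homomorphism -/
def adjust (c : GL ι F2 → (ι → F2)) (v : ι → F2) (g : GL ι F2) : ι → F2 :=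
  c g + ((g : Matrix ι ι F2) *ᵥ v + v)

theorem IsCrossed.adjust {G : Subgroup (GL ι F2)} {c : GL ι F2 → (ι → F2)} (hc : IsCrossed G c)
    (v : ι → F2) : IsCrossed G (adjust c v) := fun g hg h hh => by
  unfold CfsgLib.H1Two.adjust
  rw [hc g hg h hh, gl_mul_mulVec, mulVec_add, mulVec_add]
  have := vadd_self ((g : Matrix ι ι F2) *ᵥ v)
  calc c g + (g : Matrix ι ι F2) *ᵥ c h + ((g : Matrix ι ι F2) *ᵥ ((h : Matrix ι ι F2) *ᵥ v) + v)
      = c g + (g : Matrix ι ι F2) *ᵥ c h + ((g : Matrix ι ι F2) *ᵥ ((h : Matrix ι ι F2) *ᵥ v) + v) +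
          ((g : Matrix ι ι F2) *ᵥ v + (g : Matrix ι ι F2) *ᵥ v) := by rw [this, add_zero]
    _ = _ := by abel

theorem IsCrossed.map_one {G : Subgroup (GL ι F2)} {c : GL ι F2 → (ι → F2)} (hc : IsCrossed G c) :
    c 1 = 0 := by
  have h := hc 1 (one_mem G) 1 (one_mem G)
  rw [mul_one, Units.val_one, one_mulVec] at h
  rw [h]
  exact vadd_self _

theorem IsCrossed.map_pow {G : Subgroup (GL ι F2)} {c : GL ι F2 → (ι → F2)} (hc : IsCrossed G c)
    {g : GL ι F2} (hg : g ∈ G) : ∀ k : ℕ, c (g ^ k) = nsum (g : Matrix ι ι F2) k (c g)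
  | 0 => by rw [pow_zero, hc.map_one]; rfl
  | k + 1 => by
    rw [pow_succ', hc g hg _ (pow_mem hg k), hc.map_pow hg k]
    rfl

theorem IsCrossed.nsum_eq_zero {G : Subgroup (GL ι F2)} {c : GL ι F2 → (ι → F2)} (hc : IsCrossed G c)
    {g : GL ι F2} (hg : g ∈ G) {k : ℕ} (hk : g ^ k = 1) : nsum (g : Matrix ι ι F2) k (c g) = 0 := by
  rw [← hc.map_pow hg k, hk, hc.map_one]

/-- the vanishing set of a crossed homomorphism -/
def vanish (G : Subgroup (GL ι F2)) (c : GL ι F2 → (ι → F2)) (hc : IsCrossed G c) :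
    Subgroup (GL ι F2) where
  carrier := {g | g ∈ G ∧ c g = 0}
  one_mem' := ⟨one_mem G, hc.map_one⟩
  mul_mem' := fun {a b} ha hb => ⟨mul_mem ha.1 hb.1, by rw [hc a ha.1 b hb.1, ha.2, hb.2, mulVec_zero, add_zero]⟩
  inv_mem' := fun {a} ha => ⟨inv_mem ha.1, by
    have h := hc a⁻¹ (inv_mem ha.1) a ha.1
    rw [inv_mul_cancel, hc.map_one, ha.2, mulVec_zero, add_zero] at h
    exact h.symm⟩

variable (hQ : IsNondegenerateQuadraticForm Q)
include hQ

theorem isE_sq {u a : ι → F2} (hu : Q u = 0) (hua : pol Q u a = 0) {g : GL ι F2} (hg : IsE Q u a g) :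
    g * g = 1 := by
  have h := hg.mul hQ hu hua hua hg
  rw [vadd_self, ← zero_smul F2 u] at h
  exact h.unique (IsE.one hQ hu 0)

theorem sq_mem_omega {g : GL ι F2} (hg : g ∈ Cfsg.isometryGroup F2 Q) : g * g ∈ omegaGL Q := by
  let π : Cfsg.isometryGroup F2 Q →* Abelianization (Cfsg.isometryGroup F2 Q) := Abelianization.of
  let N : Subgroup (Cfsg.isometryGroup F2 Q) :=
    { carrier := {x | π x * π x = 1}
      one_mem' := by simp
      mul_mem' := fun {x y} hx hy => by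
        show π (x * y) * π (x * y) = 1
        rw [map_mul, mul_mul_mul_comm, hx, hy, mul_one]
      inv_mem' := fun {x} hx => by
        show π x⁻¹ * π x⁻¹ = 1
        rw [map_inv, ← mul_inv, hx, inv_one] }
  have hle : eRefl Q ≤ N.map (Cfsg.isometryGroup F2 Q).subtype := by
    refine sup_le ((Subgroup.closure_le _).2 ?_) ((Subgroup.closure_le _).2 ?_)
    · rintro x ⟨hxi, u, a, hu, hua, hE⟩
      refine ⟨⟨x, hxi⟩, ?_, rfl⟩
      show π _ * π _ = 1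
      rw [← map_mul, show (⟨x, hxi⟩ : Cfsg.isometryGroup F2 Q) * ⟨x, hxi⟩ = 1 from
        Subtype.ext (isE_sq hQ hu hua hE), map_one]
    · rintro x ⟨hxi, v, hv, hR⟩
      refine ⟨⟨x, hxi⟩, ?_, rfl⟩
      show π _ * π _ = 1
      rw [← map_mul, show (⟨x, hxi⟩ : Cfsg.isometryGroup F2 Q) * ⟨x, hxi⟩ = 1 from Subtype.ext ?_, map_one]
      refine gl_ext_vec fun y => ?_
      show ((x * x : GL ι F2) : Matrix ι ι F2) *ᵥ y = _
      have happ : ∀ z, (x : Matrix ι ι F2) *ᵥ z = z + pol Q z v • v := fun z => by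
        rw [hR, (two_cases (Q v)).resolve_left hv, inv_one, one_mul, vsub_eq_add]
      rw [gl_mul_mulVec, happ, happ, padd_left hQ, psmul_left hQ, pself_zero hQ, mul_zero, add_zero,
        add_assoc, vadd_self, add_zero]
      show y = ((1 : GL ι F2) : Matrix ι ι F2) *ᵥ y
      rw [Units.val_one, one_mulVec]
  obtain ⟨x, hx, hxg⟩ := hle (iso_le_eRefl hQ hg)
  subst hxg
  refine Subgroup.mem_map.2 ⟨x * x, ?_, rfl⟩
  show x * x ∈ commutator (Cfsg.isometryGroup F2 Q)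
  rw [← Abelianization.ker_of, MonoidHom.mem_ker, map_mul]
  exact hx

theorem odd_mem_omega {g : GL ι F2} (hg : g ∈ Cfsg.isometryGroup F2 Q) {t : ℕ} (ht : g ^ (2 * t + 1) = 1) :
    g ∈ omegaGL Q := by
  have h : (g * g) ^ (t + 1) = g := by
    rw [← pow_two, ← pow_mul, show 2 * (t + 1) = (2 * t + 1) + 1 by ring, pow_succ, ht, one_mul]
  rw [← h]
  exact pow_mem (sq_mem_omega hQ hg) _

theorem mem_omega_of_isE {u b : ι → F2} (hu : Q u = 0) (hb : pol Q u b = 0) {h : GL ι F2}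
    (hh : h ∈ Cfsg.isometryGroup F2 Q) (hhu : (h : Matrix ι ι F2) *ᵥ u = u) {g : GL ι F2}
    (hg : IsE Q u ((h : Matrix ι ι F2) *ᵥ b + b) g) : g ∈ omegaGL Q := by
  obtain ⟨k, hk, hkE⟩ := exists_E hQ hu hb
  have h1 := hkE.conj hh
  rw [hhu] at h1
  have h2 : pol Q u ((h : Matrix ι ι F2) *ᵥ b) = 0 := by
    conv_lhs => rw [← hhu]
    rw [iso_pol hh, hb]
  have h3 := h1.mul hQ hu h2 hb hkE
  have hk1 : k⁻¹ = k := inv_eq_of_mul_eq_one_right (isE_sq hQ hu hb hkE)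
  rw [hg.unique h3]
  have := mem_omegaGL_comm (Q := Q) hh hk
  rwa [hk1] at this

/-- vanishing on one Eichler subgroup after adding a principal crossed homomorphism -/
theorem step {e f : ι → F2} (he : Q e = 0) (hf : Q f = 0) (hef : pol Q e f = 1)
    (S : List (GL ι F2)) (hSi : ∀ h ∈ S, h ∈ Cfsg.isometryGroup F2 Q)
    (hSe : ∀ h ∈ S, (h : Matrix ι ι F2) *ᵥ e = e) (hSf : ∀ h ∈ S, (h : Matrix ι ι F2) *ᵥ f = f)
    (hfpf : ∃ h ∈ S, ∀ v, InW Q e f v → ∃ b, InW Q e f b ∧ (h : Matrix ι ι F2) *ᵥ b + b = v)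
    {a₀ : ι → F2} (ha₀ : InW Q e f a₀) (U : List (GL ι F2))
    (hU : ∀ u ∈ U, u ∈ Subgroup.closure {g | g ∈ S})
    (hend : ∀ t, InW Q e f t → pol Q t a₀ = 0 →
      (∀ u ∈ U, pol Q t ((u : Matrix ι ι F2) *ᵥ a₀) = pol Q ((u : Matrix ι ι F2) *ᵥ t) a₀) → t = 0 ∨ t = a₀)
    (hspan : ∀ T : AddSubgroup (ι → F2), a₀ ∈ T →
      (∀ h ∈ S, ∀ x ∈ T, (h : Matrix ι ι F2) *ᵥ x ∈ T) → ∀ w, InW Q e f w → w ∈ T)
    {c : GL ι F2 → (ι → F2)} (hc : IsCrossed (omegaGL Q) c)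
    (hS : ∀ h ∈ S, h ∈ omegaGL Q ∧ c h = 0) :
    ∃ v, (v = 0 ∨ v = f) ∧ ∀ a, InW Q e f a → ∀ g, IsE Q e a g →
      g ∈ omegaGL Q ∧ adjust c v g = 0 := by
  classical
  have hee : pol Q e e = 0 := pself_zero hQ e
  have hea : ∀ {a}, InW Q e f a → pol Q e a = 0 := fun h => by rw [pcomm]; exact h.1
  have hWadd : ∀ {a b}, InW Q e f a → InW Q e f b → InW Q e f (a + b) := fun {a b} ha hb =>
    ⟨by rw [padd_left hQ, ha.1, hb.1, add_zero], by rw [padd_left hQ, ha.2, hb.2, add_zero]⟩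
  have hW0 : InW Q e f 0 := ⟨pzero_left hQ e, pzero_left hQ f⟩
  have hW : ∀ h ∈ S, ∀ a, InW Q e f a → InW Q e f ((h : Matrix ι ι F2) *ᵥ a) := fun h hh a ha => by
    constructor
    · conv_lhs => rw [← hSe h hh]
      rw [iso_pol (hSi h hh), ha.1]
    · conv_lhs => rw [← hSf h hh]
      rw [iso_pol (hSi h hh), ha.2]
  obtain ⟨h₀, hh₀, hfp⟩ := hfpf
  have hmem : ∀ a, InW Q e f a → ∀ g, IsE Q e a g → g ∈ omegaGL Q := fun a ha g hg => by
    obtain ⟨b, hb, hba⟩ := hfp a ha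
    rw [← hba] at hg
    exact mem_omega_of_isE hQ he (hea hb) (hSi h₀ hh₀) (hSe h₀ hh₀) hg
  let g₀ : (ι → F2) → GL ι F2 := fun a =>
    if h : pol Q e a = 0 then (exists_E hQ he h).choose else 1
  have hg₀ : ∀ a, InW Q e f a → IsE Q e a (g₀ a) := fun a ha => by
    show IsE Q e a (dite _ _ _)
    rw [dif_pos (hea ha)]
    exact (exists_E hQ he (hea ha)).choose_spec.2
  let φ : (ι → F2) → (ι → F2) := fun a => c (g₀ a)
  have hEapp : ∀ a, InW Q e f a → ∀ x, pol Q x e = 0 →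
      (g₀ a : Matrix ι ι F2) *ᵥ x = x + pol Q x a • e := fun a ha x hx => by
    rw [isE_apply hQ (hg₀ a ha), hx]
    simp
  have hφadd : ∀ a b, InW Q e f a → InW Q e f b →
      φ (a + b) = φ a + (g₀ a : Matrix ι ι F2) *ᵥ φ b := fun a b ha hb => by
    have h1 := (hg₀ a ha).mul hQ he (hea ha) (hea hb) (hg₀ b hb)
    show c (g₀ (a + b)) = _
    rw [(hg₀ _ (hWadd ha hb)).unique h1]
    exact hc _ (hmem a ha _ (hg₀ a ha)) _ (hmem b hb _ (hg₀ b hb))
  have hφS : ∀ h ∈ S, ∀ a, InW Q e f a → φ ((h : Matrix ι ι F2) *ᵥ a) = (h : Matrix ι ι F2) *ᵥ φ a :=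
    fun h hh a ha => by
    have h1 := (hg₀ a ha).conj (hSi h hh)
    rw [hSe h hh] at h1
    show c (g₀ _) = _
    rw [(hg₀ _ (hW h hh a ha)).unique h1]
    obtain ⟨hm, hc0⟩ := hS h hh
    have hmi : h⁻¹ ∈ omegaGL Q := inv_mem hm
    have hci : c h⁻¹ = 0 := ((vanish (omegaGL Q) c hc).inv_mem (x := h) ⟨hm, hc0⟩).2
    have hga := hmem a ha _ (hg₀ a ha)
    rw [hc _ (mul_mem hm hga) _ hmi, hc _ hm _ hga, hc0, hci, mulVec_zero, add_zero, zero_add]
  -- a functional invariant under the isometries vanishes on `W`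
  have hfun : ∀ β : (ι → F2) → F2, (∀ a b, InW Q e f a → InW Q e f b → β (a + b) = β a + β b) →
      (∀ h ∈ S, ∀ a, InW Q e f a → β ((h : Matrix ι ι F2) *ᵥ a) = β a) → ∀ a, InW Q e f a → β a = 0 := by
    intro β hβ hinv a ha
    obtain ⟨b, hb, rfl⟩ := hfp a ha
    rw [hβ _ _ (hW _ hh₀ b hb) hb, hinv _ hh₀ b hb, self_add]
  have hβ : ∀ a, InW Q e f a → pol Q (φ a) e = 0 := by
    refine hfun (fun a => pol Q (φ a) e) (fun a b ha hb => ?_) fun h hh a ha => ?_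
    · show pol Q (φ (a + b)) e = _
      rw [hφadd a b ha hb, padd_left hQ]
      congr 1
      rw [isE_apply hQ (hg₀ a ha)]
      simp only [padd_left hQ, psmul_left hQ, hee, ha.1, mul_zero, add_zero]
    · show pol Q (φ _) e = _
      rw [hφS h hh a ha]
      conv_lhs => rw [← hSe h hh]
      exact iso_pol (hSi h hh) _ _
  have hφadd' : ∀ a b, InW Q e f a → InW Q e f b → φ (a + b) = φ a + φ b + pol Q (φ b) a • e :=
    fun a b ha hb => by rw [hφadd a b ha hb, hEapp a ha _ (hβ b hb), add_assoc]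
  have hφ0 : φ 0 = 0 := by
    show c (g₀ 0) = 0
    have h1 : IsE Q e 0 1 := by simpa using IsE.one hQ he 0
    rw [(hg₀ 0 hW0).unique h1]
    exact hc.map_one
  let γ : (ι → F2) → (ι → F2) := fun a => φ a + pol Q (φ a) f • e
  have hγW : ∀ a, InW Q e f a → InW Q e f (γ a) := fun a ha =>
    ⟨by simp only [γ, padd_left hQ, psmul_left hQ, hee, hβ a ha, mul_zero, add_zero],
      by simp only [γ, padd_left hQ, psmul_left hQ, hef, mul_one, self_add]⟩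
  have hγpol : ∀ a b, InW Q e f b → pol Q (γ a) b = pol Q (φ a) b := fun a b hb => by
    simp only [γ, padd_left hQ, psmul_left hQ, hea hb, mul_zero, add_zero]
  have hγadd : ∀ a b, InW Q e f a → InW Q e f b → γ (a + b) = γ a + γ b := fun a b ha hb => by
    have h1 : pol Q (φ (a + b)) f = pol Q (φ a) f + pol Q (φ b) f + pol Q (φ b) a := by
      rw [hφadd' a b ha hb, padd_left hQ, padd_left hQ, psmul_left hQ, hef, mul_one]
    show φ (a + b) + pol Q (φ (a + b)) f • e = _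
    rw [h1, hφadd' a b ha hb, add_smul, add_smul]
    have := vadd_self (pol Q (φ b) a • e)
    calc φ a + φ b + pol Q (φ b) a • e + (pol Q (φ a) f • e + pol Q (φ b) f • e + pol Q (φ b) a • e)
        = φ a + φ b + (pol Q (φ a) f • e + pol Q (φ b) f • e) + (pol Q (φ b) a • e + pol Q (φ b) a • e) := by abel
      _ = _ := by rw [this, add_zero]; simp only [γ]; abel
  have he0 : e ≠ 0 := fun h => by rw [h, pzero_left hQ] at hef; exact zero_ne_one hef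
  have halt : ∀ a, InW Q e f a → pol Q (γ a) a = 0 := fun a ha => by
    have h1 := hφadd' a a ha ha
    rw [vadd_self, hφ0, vadd_self, zero_add] at h1
    rw [hγpol a a ha]
    exact (smul_eq_zero.1 h1.symm).resolve_right he0
  have hsym : ∀ a b, InW Q e f a → InW Q e f b → pol Q (γ a) b = pol Q (γ b) a := fun a b ha hb => by
    have h1 := halt (a + b) (hWadd ha hb)
    rw [hγadd a b ha hb, padd_left hQ, padd_right hQ, padd_right hQ, halt a ha, halt b hb, zero_add,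
      add_zero] at h1
    exact eq_of_sub_eq_zero (by rw [CharTwo.sub_eq_add]; exact h1)
  have hγS : ∀ h ∈ S, ∀ a, InW Q e f a → γ ((h : Matrix ι ι F2) *ᵥ a) = (h : Matrix ι ι F2) *ᵥ γ a :=
    fun h hh a ha => by
    show φ _ + pol Q (φ _) f • e = _
    rw [hφS h hh a ha]
    have h2 : pol Q ((h : Matrix ι ι F2) *ᵥ φ a) f = pol Q (φ a) f := by
      conv_lhs => rw [← hSf h hh]
      exact iso_pol (hSi h hh) _ _
    rw [h2]
    show _ = (h : Matrix ι ι F2) *ᵥ (φ a + pol Q (φ a) f • e)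
    rw [mulVec_add, mulVec_smul, hSe h hh]
  -- the equivariant map at `a₀`
  have hUgood : ∀ u ∈ Subgroup.closure {g | g ∈ S}, (u ∈ Cfsg.isometryGroup F2 Q) ∧
      (∀ a, InW Q e f a → InW Q e f ((u : Matrix ι ι F2) *ᵥ a)) ∧
      ∀ a, InW Q e f a → γ ((u : Matrix ι ι F2) *ᵥ a) = (u : Matrix ι ι F2) *ᵥ γ a := by
    intro u hu
    induction hu using Subgroup.closure_induction'' with
    | mem x hx => exact ⟨hSi x hx, hW x hx, hγS x hx⟩
    | inv_mem x hx =>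
      have hxi := inv_mem (hSi x hx)
      have hWi : ∀ a, InW Q e f a → InW Q e f (((x⁻¹ : GL ι F2) : Matrix ι ι F2) *ᵥ a) := fun a ha =>
        ⟨by rw [← iso_pol (hSi x hx), gl_mulVec_inv, hSe x hx, ha.1],
          by rw [← iso_pol (hSi x hx), gl_mulVec_inv, hSf x hx, ha.2]⟩
      refine ⟨hxi, hWi, fun a ha => ?_⟩
      have h1 := hγS x hx _ (hWi a ha)
      rw [gl_mulVec_inv] at h1
      rw [h1, ← gl_mul_mulVec, inv_mul_cancel, Units.val_one, one_mulVec]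
    | one => exact ⟨one_mem _, fun a ha => by simpa using ha, fun a _ => by simp⟩
    | mul x y _ _ hx hy =>
      exact ⟨mul_mem hx.1 hy.1, fun a ha => by rw [gl_mul_mulVec]; exact hx.2.1 _ (hy.2.1 a ha),
        fun a ha => by rw [gl_mul_mulVec, hx.2.2 _ (hy.2.1 a ha), hy.2.2 a ha, gl_mul_mulVec]⟩
  have hcases := hend (γ a₀) (hγW a₀ ha₀) (halt a₀ ha₀) fun u hu => by
    obtain ⟨hui, huW, huγ⟩ := hUgood u (hU u hu)
    rw [hsym a₀ _ ha₀ (huW a₀ ha₀), huγ a₀ ha₀]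
  -- `γ` is zero or the identity
  have hscalar : ∀ ε : F2, γ a₀ = ε • a₀ → ∀ w, InW Q e f w → γ w = ε • w := by
    intro ε hε w hw
    let T : AddSubgroup (ι → F2) :=
      { carrier := {x | InW Q e f x ∧ γ x = ε • x}
        zero_mem' := ⟨hW0, by show φ 0 + _ = _; rw [hφ0, pzero_left hQ]; simp⟩
        add_mem' := fun {x y} hx hy => ⟨hWadd hx.1 hy.1, by rw [hγadd x y hx.1 hy.1, hx.2, hy.2, smul_add]⟩
        neg_mem' := fun {x} hx => by
          rw [show -x = x from (eq_neg_of_add_eq_zero_left (vadd_self x)).symm]; exact hx }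
    exact (hspan T ⟨ha₀, hε⟩ (fun h hh x hx =>
      ⟨hW h hh x hx.1, by rw [hγS h hh x hx.1, hx.2, mulVec_smul]⟩) w hw).2
  obtain ⟨ε, hε⟩ : ∃ ε : F2, γ a₀ = ε • a₀ := by
    rcases hcases with h | h
    · exact ⟨0, by rw [h, zero_smul]⟩
    · exact ⟨1, by rw [h, one_smul]⟩
  refine ⟨ε • f, ?_, fun a ha g hg => ⟨hmem a ha g hg, ?_⟩⟩
  · rcases two_cases ε with h | h <;> rw [h] <;> simp
  obtain rfl := hg.unique (hg₀ a ha)
  let δ : (ι → F2) → F2 := fun a => pol Q (φ a) f + ε * Q a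
  have hdec : ∀ a, InW Q e f a → adjust c (ε • f) (g₀ a) = δ a • e := fun a ha => by
    show φ a + ((g₀ a : Matrix ι ι F2) *ᵥ (ε • f) + ε • f) = _
    have h1 : φ a = ε • a + pol Q (φ a) f • e := by
      rw [← hscalar ε hε a ha]
      show φ a = φ a + pol Q (φ a) f • e + pol Q (φ a) f • e
      rw [add_assoc, vadd_self, add_zero]
    have hfe : pol Q f e = 1 := by rw [pcomm, hef]
    have hfa : pol Q f a = 0 := by rw [pcomm]; exact ha.2
    have h2 : (g₀ a : Matrix ι ι F2) *ᵥ f = f + a + Q a • e := by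
      rw [isE_apply hQ (hg₀ a ha), hfe, hfa]
      simp
    rw [mulVec_smul, h2, smul_add, smul_add, smul_smul]
    conv_lhs => rw [h1]
    show _ = (pol Q (φ a) f + ε * Q a) • e
    rw [add_smul]
    calc ε • a + pol Q (φ a) f • e + (ε • f + ε • a + (ε * Q a) • e + ε • f)
        = (pol Q (φ a) f • e + (ε * Q a) • e) + (ε • a + ε • a) + (ε • f + ε • f) := by abel
      _ = _ := by rw [vadd_self, vadd_self, add_zero, add_zero]
  rw [hdec a ha, hfun δ (fun x y hx hy => ?_) (fun h hh x hx => ?_) a ha, zero_smul]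
  · show pol Q (φ (x + y)) f + ε * Q (x + y) = _
    have h1 : pol Q (φ y) x = ε * pol Q y x := by
      rw [← hγpol y x hx, hscalar ε hε y hy, psmul_left hQ]
    rw [hφadd' x y hx hy, padd_left hQ, padd_left hQ, psmul_left hQ, hef, mul_one, qadd hQ, h1, pcomm y x]
    have hk : ∀ p q r s t u : F2, p + q + t * u + t * (r + s + u) = p + t * r + (q + t * s) := by decide
    exact hk _ _ _ _ _ _
  · show pol Q (φ _) f + ε * Q _ = _
    rw [hφS h hh x hx, mem_iso.1 (hSi h hh)]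
    congr 1
    conv_lhs => rw [← hSf h hh]
    exact iso_pol (hSi h hh) _ _

/-- crossed homomorphisms into the natural module are principal -/
theorem principal {e f : ι → F2} (he : Q e = 0) (hf : Q f = 0) (hef : pol Q e f = 1) (hn : 3 ≤ Fintype.card ι)
    {a₁ : ι → F2} (ha₁ : Q a₁ = 1) (ha₁W : InW Q e f a₁)
    {h₁ h₂ : GL ι F2} (hi₁ : h₁ ∈ Cfsg.isometryGroup F2 Q) (hi₂ : h₂ ∈ Cfsg.isometryGroup F2 Q)
    (he₁ : (h₁ : Matrix ι ι F2) *ᵥ e = e) (hf₁ : (h₁ : Matrix ι ι F2) *ᵥ f = f)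
    (he₂ : (h₂ : Matrix ι ι F2) *ᵥ e = e) (hf₂ : (h₂ : Matrix ι ι F2) *ᵥ f = f)
    {t₁ t₂ j : ℕ} (hm₁ : h₁ ^ (2 * t₁ + 1) = 1) (hm₂ : h₂ ^ (2 * t₂ + 1) = 1) (hj : (h₁ * h₂) ^ j = 1)
    (P : (ι → F2) → (ι → F2))
    (hP : ∀ v, nsum (h₁ : Matrix ι ι F2) (2 * t₁ + 1) v = 0 → (h₁ : Matrix ι ι F2) *ᵥ P v + P v = v)
    (hPW : ∀ v, InW Q e f v → InW Q e f (P v) ∧ (h₁ : Matrix ι ι F2) *ᵥ P v + P v = v)
    (hrel : ∀ v, nsum (h₂ : Matrix ι ι F2) (2 * t₂ + 1) v = 0 →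
      nsum ((h₁ * h₂ : GL ι F2) : Matrix ι ι F2) j ((h₁ : Matrix ι ι F2) *ᵥ v) = 0 → v = 0)
    {a₀ : ι → F2} (ha₀ : InW Q e f a₀) (U : List (GL ι F2))
    (hU : ∀ u ∈ U, u ∈ Subgroup.closure {g | g ∈ [h₁, h₂]})
    (hend : ∀ t, InW Q e f t → pol Q t a₀ = 0 →
      (∀ u ∈ U, pol Q t ((u : Matrix ι ι F2) *ᵥ a₀) = pol Q ((u : Matrix ι ι F2) *ᵥ t) a₀) → t = 0 ∨ t = a₀)
    (hspan : ∀ T : AddSubgroup (ι → F2), a₀ ∈ T →
      (∀ h ∈ [h₁, h₂], ∀ x ∈ T, (h : Matrix ι ι F2) *ᵥ x ∈ T) → ∀ w, InW Q e f w → w ∈ T)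
    (φ : ↥(Cfsg.Omega F2 Q) → (ι → F2))
    (hφ : ∀ g h : ↥(Cfsg.Omega F2 Q), φ (g * h) =
      φ g + (((g : ↥(Cfsg.isometryGroup F2 Q)) : GL ι F2) : Matrix ι ι F2) *ᵥ φ h) :
    ∃ v : ι → F2, ∀ g : ↥(Cfsg.Omega F2 Q),
      φ g = (((g : ↥(Cfsg.isometryGroup F2 Q)) : GL ι F2) : Matrix ι ι F2) *ᵥ v - v := by
  classical
  have hval : Function.Injective fun x : ↥(Cfsg.Omega F2 Q) => ((x : ↥(Cfsg.isometryGroup F2 Q)) : GL ι F2) :=
    Subtype.val_injective.comp Subtype.val_injective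
  obtain ⟨c, hcφ⟩ : ∃ c : GL ι F2 → (ι → F2),
      ∀ x : ↥(Cfsg.Omega F2 Q), c ((x : ↥(Cfsg.isometryGroup F2 Q)) : GL ι F2) = φ x :=
    ⟨Function.extend (fun x : ↥(Cfsg.Omega F2 Q) => ((x : ↥(Cfsg.isometryGroup F2 Q)) : GL ι F2)) φ 0,
      fun x => hval.extend_apply φ 0 x⟩
  have hmem : ∀ g ∈ omegaGL Q, ∃ x : ↥(Cfsg.Omega F2 Q), ((x : ↥(Cfsg.isometryGroup F2 Q)) : GL ι F2) = g :=
    fun g hg => by
      obtain ⟨y, hy, hyg⟩ := Subgroup.mem_map.1 hg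
      exact ⟨⟨y, hy⟩, hyg⟩
  have hc : IsCrossed (omegaGL Q) c := by
    intro g hg h hh
    obtain ⟨x, rfl⟩ := hmem g hg
    obtain ⟨y, rfl⟩ := hmem h hh
    rw [← Subgroup.coe_mul (Cfsg.isometryGroup F2 Q), ← Subgroup.coe_mul (Cfsg.Omega F2 Q), hcφ, hcφ, hcφ]
    exact hφ x y
  have hO₁ := odd_mem_omega hQ hi₁ hm₁
  have hO₂ := odd_mem_omega hQ hi₂ hm₂
  -- vanishing on the two isometries
  obtain ⟨v₀, hv₀⟩ : ∃ v₀, v₀ = P (c h₁) := ⟨_, rfl⟩
  have hc₁ := hc.adjust v₀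
  have hz₁ : adjust c v₀ h₁ = 0 := by
    show c h₁ + ((h₁ : Matrix ι ι F2) *ᵥ v₀ + v₀) = 0
    rw [hv₀, hP _ (hc.nsum_eq_zero hO₁ hm₁), vadd_self]
  have hz₂ : adjust c v₀ h₂ = 0 := by
    refine hrel _ (hc₁.nsum_eq_zero hO₂ hm₂) ?_
    have h := hc₁.nsum_eq_zero (mul_mem hO₁ hO₂) hj
    rwa [hc₁ h₁ hO₁ h₂ hO₂, hz₁, zero_add] at h
  have hSi : ∀ h ∈ [h₁, h₂], h ∈ Cfsg.isometryGroup F2 Q := by simp [hi₁, hi₂]
  have hSe : ∀ h ∈ [h₁, h₂], (h : Matrix ι ι F2) *ᵥ e = e := by simp [he₁, he₂]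
  have hSf : ∀ h ∈ [h₁, h₂], (h : Matrix ι ι F2) *ᵥ f = f := by simp [hf₁, hf₂]
  have hS : ∀ h ∈ [h₁, h₂], h ∈ omegaGL Q ∧ adjust c v₀ h = 0 := by simp [hO₁, hO₂, hz₁, hz₂]
  have hfp : ∃ h ∈ [h₁, h₂], ∀ v, InW Q e f v → ∃ b, InW Q e f b ∧ (h : Matrix ι ι F2) *ᵥ b + b = v :=
    ⟨h₁, by simp, fun v hv => ⟨P v, hPW v hv⟩⟩
  obtain ⟨v₁, hv₁, hE⟩ := step hQ he hf hef _ hSi hSe hSf hfp ha₀ U hU hend hspan hc₁ hS
  have hc₂ := hc₁.adjust v₁
  have hfix₁ : ∀ h ∈ [h₁, h₂], (h : Matrix ι ι F2) *ᵥ v₁ = v₁ := fun h hh => by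
    rcases hv₁ with rfl | rfl
    · exact mulVec_zero _
    · exact hSf h hh
  have hS₂ : ∀ h ∈ [h₁, h₂], h ∈ omegaGL Q ∧ adjust (adjust c v₀) v₁ h = 0 := fun h hh =>
    ⟨(hS h hh).1, by show adjust c v₀ h + _ = 0; rw [(hS h hh).2, hfix₁ h hh, vadd_self, add_zero]⟩
  have hswap : ∀ {a}, InW Q f e a → InW Q e f a := fun h => ⟨h.2, h.1⟩
  have hswap' : ∀ {a}, InW Q e f a → InW Q f e a := fun h => ⟨h.2, h.1⟩
  obtain ⟨v₂, hv₂, hF⟩ := step hQ hf he (by rw [pcomm, hef]) _ hSi hSf hSe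
    (⟨h₁, by simp, fun v hv => ⟨P v, hswap' (hPW v (hswap hv)).1, (hPW v (hswap hv)).2⟩⟩)
    (hswap' ha₀) U hU (fun t ht => hend t (hswap ht)) (fun T h0 hT w hw => hspan T h0 hT w (hswap hw)) hc₂ hS₂
  have hc₃ := hc₂.adjust v₂
  have hgens : gGroup Q e f ≤ vanish (omegaGL Q) _ hc₃ := by
    refine (Subgroup.closure_le _).2 ?_
    rintro g ⟨hgi, a, h1, h2, h3 | h3⟩
    · obtain ⟨hgO, hg0⟩ := hE a ⟨h1, h2⟩ g h3
      refine ⟨hgO, ?_⟩
      show adjust (adjust c v₀) v₁ g + _ = 0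
      rw [hg0, zero_add]
      rcases hv₂ with hv | hv <;> rw [hv]
      · rw [mulVec_zero, add_zero]
      · rw [isE_apply hQ h3, pself_zero hQ, pcomm e a, h1]
        simp [vadd_self]
    · exact hF a ⟨h2, h1⟩ g h3
  refine ⟨v₀ + v₁ + v₂, fun x => ?_⟩
  have hx : ((x : ↥(Cfsg.isometryGroup F2 Q)) : GL ι F2) ∈ omegaGL Q := ⟨x, x.2, rfl⟩
  have h0 := (hgens (omega_le hQ he hf hef ha₁ ha₁W.1 ha₁W.2 hn hx)).2
  rw [← hcφ x, vsub_eq_add, mulVec_add, mulVec_add]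
  generalize ((x : ↥(Cfsg.isometryGroup F2 Q)) : GL ι F2) = g at h0 ⊢
  simp only [adjust] at h0
  refine eq_of_sub_eq_zero ?_
  rw [vsub_eq_add]
  refine Eq.trans ?_ h0
  abel

end CfsgLib.H1Two
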